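import Mathlib
import Cfsg.Agent.H93.SuzLG.Data

/-!
A checked coset table (generated data).
-/

set_option autoImplicit false
set_option maxRecDepth 100000
set_option linter.all false
set_option Elab.async false

namespace H93
namespace SuzLG

open Coset

noncomputable section

theorem edge0_0 : data.edgesFast 0 0 1782 = true := by decide +kernel

theorem edge1_0 : data.edgesFast 1 0 1782 = true := by decide +kernel

theorem edge2_0 : data.edgesFast 2 0 1782 = true := by decide +kernel

theorem edge3_0 : data.edgesFast 3 0 1782 = true := by decide +kernel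

theorem edge4_0 : data.edgesFast 4 0 1782 = true := by decide +kernel

theorem edge5_0 : data.edgesFast 5 0 1782 = true := by decide +kernel

theorem edge6_0 : data.edgesFast 6 0 1782 = true := by decide +kernel

theorem treeRow_0 : treeOK data 0 1782 = true := by decide +kernel

theorem rel0_0 : data.relOK [0,0] 0 1782 = true := by decide +kernel

theorem rel1_0 : data.relOK [1,0,1,0,1,0,1,0,1,0] 0 1782 = true := by decide +kernel

theorem rel2_0 : data.relOK [2,0,2,0] 0 1782 = true := by decide +kernel

theorem rel3_0 : data.relOK [3,0,3,0] 0 1782 = true := by decide +kernel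

theorem rel4_0 : data.relOK [4,0,4,0] 0 1782 = true := by decide +kernel

theorem rel5_0 : data.relOK [5,0,5,0] 0 1782 = true := by decide +kernel

theorem rel6_0 : data.relOK [6,0,6,0] 0 1782 = true := by decide +kernel

theorem rel7_0 : data.relOK [1,1] 0 1782 = true := by decide +kernel

theorem rel8_0 : data.relOK [2,1,2,1,2,1] 0 1782 = true := by decide +kernel

theorem rel9_0 : data.relOK [3,1,3,1] 0 1782 = true := by decide +kernel

theorem rel10_0 : data.relOK [4,1,4,1] 0 1782 = true := by decide +kernel

theorem rel11_0 : data.relOK [5,1,5,1,5,1] 0 1782 = true := by decide +kernel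

theorem rel12_0 : data.relOK [6,1,6,1,6,1] 0 1782 = true := by decide +kernel

theorem rel13_0 : data.relOK [2,2] 0 1782 = true := by decide +kernel

theorem rel14_0 : data.powOK [3,2] 8 pw14 0 1782 = true := by decide +kernel

theorem rel15_0 : data.relOK [4,2,4,2] 0 1782 = true := by decide +kernel

theorem rel16_0 : data.relOK [5,2,5,2] 0 1782 = true := by decide +kernel

theorem rel17_0 : data.relOK [6,2,6,2] 0 1782 = true := by decide +kernel

theorem rel18_0 : data.relOK [3,3] 0 1782 = true := by decide +kernel

theorem rel19_0 : data.relOK [4,3,4,3,4,3] 0 1782 = true := by decide +kernel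

theorem rel20_0 : data.relOK [5,3,5,3] 0 1782 = true := by decide +kernel

theorem rel21_0 : data.relOK [6,3,6,3] 0 1782 = true := by decide +kernel

theorem rel22_0 : data.relOK [4,4] 0 1782 = true := by decide +kernel

theorem rel23_0 : data.relOK [5,4,5,4] 0 1782 = true := by decide +kernel

theorem rel24_0 : data.relOK [6,4,6,4] 0 1782 = true := by decide +kernel

theorem rel25_0 : data.relOK [5,5] 0 1782 = true := by decide +kernel

theorem rel26_0 : data.relOK [6,5,6,5,6,5,6,5] 0 1782 = true := by decide +kernel

theorem rel27_0 : data.relOK [6,6] 0 1782 = true := by decide +kernel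

theorem rel28_0 : data.relOK [2,3,2,3,2,3,2,3,0] 0 1782 = true := by decide +kernel

theorem rel29_0 : data.relOK [5,6,5,6,0] 0 1782 = true := by decide +kernel

theorem rel30_0 : data.powOK [5,2,1,0] 5 pw30 0 1782 = true := by decide +kernel

theorem rel31_0 : data.powOK [6,5,1] 5 pw31 0 1782 = true := by decide +kernel

theorem rel32_0 : data.powOK [4,3,2,3,2,1,3,2,3,2,1,3,2,3,2,1,3,2,3,2,1,3,2,3,2,1] 3 pw32 0 1782 = true := by decide +kernel

end

end SuzLG
end H93
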